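import Mathlib.RingTheory.MvPolynomial.Homogeneous
import Groth.Prelude.Def_W4c3degenlocivbPfaff
import Mathlib.Tactic.Ring

/-!
Small tools about the Pfaffian `W4c3degenlocivb.pf`: compatibility with ring maps, homogeneity, and
the value on "path" matrices.
-/

set_option autoImplicit false

namespace K883.PfTools

open W4c3degenlocivb

theorem pf_succ_succ {R : Type*} [CommRing R] (n : ℕ) (T : Matrix (Fin (n + 2)) (Fin (n + 2)) R) :
    pf (n + 2) T = ∑ j : Fin (n + 1),
      (-1) ^ ((j : ℕ) + 1) * T (Fin.last (n + 1)) (Fin.castSucc j) *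
        pf n (T.submatrix (Fin.castSucc ∘ j.succAbove) (Fin.castSucc ∘ j.succAbove)) := rfl

theorem map_pf {R S : Type*} [CommRing R] [CommRing S] (f : R →+* S) :
    ∀ (n : ℕ) (T : Matrix (Fin n) (Fin n) R), f (pf n T) = pf n (T.map f)
  | 0, _ => map_one f
  | 1, _ => map_zero f
  | n + 2, T => by
    rw [pf_succ_succ, pf_succ_succ, map_sum]
    refine Finset.sum_congr rfl fun j _ => ?_
    rw [map_mul, map_mul, map_pow, map_neg, map_one, map_pf f n]
    rfl

theorem isHomogeneous_pf {σ R : Type*} [CommRing R] :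
    ∀ (m : ℕ) (T : Matrix (Fin (2 * m)) (Fin (2 * m)) (MvPolynomial σ R)),
      (∀ a b, (T a b).IsHomogeneous 1) → (pf (2 * m) T).IsHomogeneous m
  | 0, _, _ => MvPolynomial.isHomogeneous_one _ _
  | m + 1, T, hT => by
    change (pf (2 * m + 2) T).IsHomogeneous (m + 1)
    rw [pf_succ_succ]
    refine MvPolynomial.IsHomogeneous.sum _ _ _ fun j _ => ?_
    have h1 : ((-1 : MvPolynomial σ R) ^ ((j : ℕ) + 1)).IsHomogeneous 0 := by
      have h : (-1 : MvPolynomial σ R).IsHomogeneous 0 := by
        have := (MvPolynomial.isHomogeneous_one σ R).neg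
        exact this
      have := h.pow ((j : ℕ) + 1)
      rwa [zero_mul] at this
    have h2 := (h1.mul (hT (Fin.last (2 * m + 1)) (Fin.castSucc j))).mul
      (isHomogeneous_pf m (T.submatrix (Fin.castSucc ∘ j.succAbove) (Fin.castSucc ∘ j.succAbove))
        (fun a b => hT _ _))
    rwa [zero_add, add_comm 1 m] at h2

/-- The Pfaffian of a matrix with vanishing entries strictly below the subdiagonal. -/
theorem pf_path {R : Type*} [CommRing R] (w : ℕ → R) :
    ∀ (m : ℕ) (T : Matrix (Fin (2 * m)) (Fin (2 * m)) R),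
      (∀ a b : Fin (2 * m), (b : ℕ) + 1 < a → T a b = 0) →
      (∀ (l : ℕ) (hl : 2 * l + 1 < 2 * m), T ⟨2 * l + 1, hl⟩ ⟨2 * l, by omega⟩ = - w l) →
      pf (2 * m) T = ∏ l ∈ Finset.range m, w l
  | 0, _, _, _ => by simp [pf]
  | m + 1, T, h0, h1 => by
    change pf (2 * m + 2) T = _
    have ih := pf_path w m (T.submatrix (Fin.castSucc ∘ Fin.castSucc) (Fin.castSucc ∘ Fin.castSucc)
      : Matrix (Fin (2 * m)) (Fin (2 * m)) R) (fun a b h => h0 _ _ h) (fun l hl => h1 l (by omega))
    have e2 : T (Fin.last (2 * m + 1)) (Fin.castSucc (Fin.last (2 * m))) = - w m :=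
      h1 m (by omega)
    rw [pf_succ_succ, Finset.sum_eq_single (Fin.last (2 * m))]
    · rw [Fin.succAbove_last]
      rw [ih, Finset.prod_range_succ]
      rw [e2, Fin.val_last, pow_succ, pow_mul]
      simp
      ring
    · intro j _ hj
      have hj' : (j : ℕ) < 2 * m := by
        have := j.2
        have h3 : (j : ℕ) ≠ 2 * m := fun h => hj (Fin.ext (by simpa using h))
        omega
      have h4 : T (Fin.last (2 * m + 1)) (Fin.castSucc j) = 0 :=
        h0 (Fin.last (2 * m + 1)) (Fin.castSucc j) (by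
          change (j : ℕ) + 1 < 2 * m + 1
          omega)
      rw [h4]
      ring
    · intro h
      exact absurd (Finset.mem_univ _) h

end K883.PfTools
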